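import Cfsg.Agent.H92.ExtP
import Cfsg.Agent.H778.ExcNot
import Cfsg.Agent.H67.SzOdd
import Cfsg.Agent.S1066
import Cfsg.Agent.S1067
import Cfsg.Agent.S1068
import Cfsg.Agent.S1069
import Cfsg.Agent.S1092
import Cfsg.Agent.S1093
import Cfsg.Agent.S1157
import Cfsg.Agent.S1163
import Cfsg.Prelude.Def_Classification2
import Cfsg.Agent.Prune
set_option linter.all false
prune_inst 0x7f00000000000000000000000000000000000000000000000000000000000000000000000000000000000000000000000000000000000000000000000000000000000000000000000000000000000000003fffffffffffffffffffffffffffbeffbdffffffff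
open scoped Cfsg.Agent.FastGrp

/-!
# Extraspecial Sylow subgroups of order `p³`: twisted exceptional groups (helper525, for S2215 of helper92)
-/

set_option autoImplicit false

namespace Cfsg.Agent.H525.ExtTw

open Cfsg Cfsg.Lie Cfsg.Lie.ChevalleyDatum Cfsg.Agent.H92.ExtP
open Cfsg.Agent.ChevalleyStructure Cfsg.Agent.ChevalleyStructure.Elts Cfsg.Agent.Nodes.RGDChev

variable {p : ℕ} [hpf : Fact p.Prime]

/-- subgroups generated by words in root elements -/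
theorem genSubgroup_le_group {D : ChevalleyDatum} (hD : InList D) {K : Type*} [Field K] (S : Set (List (ℕ × K))) :
    D.genSubgroup K S ≤ D.group K := by
  unfold ChevalleyDatum.genSubgroup
  rw [Subgroup.closure_le]
  rintro g ⟨w, -, hg⟩
  rw [← eq_wordG_iff hD] at hg
  rw [SetLike.mem_coe, hg]
  clear hg
  induction w with
  | nil => exact one_mem _
  | cons p w ih => rw [wordG_cons]; exact mul_mem (xG_mem_group hD _ _) ih

theorem type_G2 : IsType chevG2 2 CoxeterMatrix.G₂ := by simp [IsType, typeList]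
theorem type_D4 : IsType chevD4 4 coxeterD4 := by simp [IsType, typeList]
theorem type_F4 : IsType chevF4 4 CoxeterMatrix.F₄ := by simp [IsType, typeList]
theorem type_E6 : IsType chevE6 6 CoxeterMatrix.E₆ := by simp [IsType, typeList]

theorem card_G2 : Nat.card CoxeterMatrix.G₂.Group = 12 := S1092.result (⟨2, CoxeterMatrix.G₂⟩, 12) (by simp)
theorem card_D4 : Nat.card coxeterD4.Group = 192 := S1092.result (⟨4, coxeterD4⟩, 192) (by simp)
theorem card_F4 : Nat.card CoxeterMatrix.F₄.Group = 1152 := S1092.result (⟨4, CoxeterMatrix.F₄⟩, 1152) (by simp)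
theorem card_E6 : Nat.card CoxeterMatrix.E₆.Group = 51840 := S1093.result (⟨6, CoxeterMatrix.E₆⟩, 51840) (by simp)

theorem not_dvd_lt {a : ℕ} (h0 : a ≠ 0) (h : a < p) : ¬ p ∣ a :=
  fun h1 => absurd (Nat.le_of_dvd (Nat.pos_of_ne_zero h0) h1) (by omega)

theorem nd_three (h5 : 5 ≤ p) {a b : ℕ} : ¬ p ∣ 2 ^ a * 3 ^ b := by
  intro h
  rcases (hpf.out.dvd_mul).1 h with h1 | h1
  · exact not_dvd_lt (by norm_num) (by omega) (hpf.out.dvd_of_dvd_pow h1)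
  · exact not_dvd_lt (by norm_num) (by omega) (hpf.out.dvd_of_dvd_pow h1)

theorem nd_five (h7 : 7 ≤ p) {a b c : ℕ} : ¬ p ∣ 2 ^ a * 3 ^ b * 5 ^ c := by
  intro h
  rcases (hpf.out.dvd_mul).1 h with h1 | h1
  · exact nd_three (by omega) h1
  · exact not_dvd_lt (by norm_num) (by omega) (hpf.out.dvd_of_dvd_pow h1)

theorem W_G2 (h5 : 5 ≤ p) : ¬ p ∣ Nat.card CoxeterMatrix.G₂.Group := by
  rw [card_G2, show 12 = 2 ^ 2 * 3 ^ 1 by norm_num]; exact nd_three h5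
theorem W_D4 (h5 : 5 ≤ p) : ¬ p ∣ Nat.card coxeterD4.Group := by
  rw [card_D4, show 192 = 2 ^ 6 * 3 ^ 1 by norm_num]; exact nd_three h5
theorem W_F4 (h5 : 5 ≤ p) : ¬ p ∣ Nat.card CoxeterMatrix.F₄.Group := by
  rw [card_F4, show 1152 = 2 ^ 7 * 3 ^ 2 by norm_num]; exact nd_three h5
theorem W_E6 (h7 : 7 ≤ p) : ¬ p ∣ Nat.card CoxeterMatrix.E₆.Group := by
  rw [card_E6, show 51840 = 2 ^ 7 * 3 ^ 4 * 5 ^ 1 by norm_num]; exact nd_five h7

/-- commutative Sylow subgroups exclude `Ext` -/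
theorem false_of_comm {G : Type*} [Group G] [Finite G] (h : _root_.Cfsg.Agent.H92.ExtP.Ext p G) (hc : ∀ Q : Sylow p G, IsMulCommutative Q) :
    False := by
  obtain ⟨Q⟩ : Nonempty (Sylow p G) := inferInstance
  have h3 : p ^ 3 ≤ Nat.card (Q : Subgroup G) := by
    refine Nat.le_of_dvd Nat.card_pos ?_
    rw [Q.card_eq_multiplicity]
    exact pow_dvd_pow p ((hpf.out.pow_dvd_iff_le_factorization Nat.card_pos.ne').1 h.dvd)
  obtain ⟨a, ha, b, hb, hab⟩ := h.exists_ne Q.2 h3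
  have := (hc Q).is_comm.comm ⟨a, ha⟩ ⟨b, hb⟩
  exact hab (congrArg Subtype.val this)

theorem prime_cases : p = 2 ∨ p = 3 ∨ p = 5 ∨ 7 ≤ p := by
  have hp : p.Prime := hpf.out
  rcases Nat.lt_or_ge p 7 with h | h
  · have := hp.two_le
    interval_cases p
    · exact Or.inl rfl
    · exact Or.inr (Or.inl rfl)
    · exact absurd hp (by norm_num)
    · exact Or.inr (Or.inr (Or.inl rfl))
    · exact absurd hp (by norm_num)
  · exact Or.inr (Or.inr (Or.inr h))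

/-- the Sylow `p`-subgroups of a subgroup generated by words, `p` prime to the Weyl group -/
theorem false_of_weyl {D : ChevalleyDatum} {l : ℕ} {M : CoxeterMatrix (Fin l)} (hp : IsType D l M)
    (hW : ¬ p ∣ Nat.card M.Group) {F : Type*} [Field F] [Fintype F] (hpF : ¬ p ∣ Fintype.card F)
    (S : Set (List (ℕ × F))) (h : _root_.Cfsg.Agent.H92.ExtP.Ext p ↥(D.genSubgroup F S)) : False :=
  false_of_comm h fun Q => Cfsg.Agent.H778.Exc.comm_of_weyl hp M.toCoxeterSystem hW hpF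
    (e0 := Subgroup.inclusion (genSubgroup_le_group hp.inList S)) (Subgroup.inclusion_injective _) Q

theorem sq_mod_three {q : ℕ} (h : ¬ 3 ∣ q) : q ^ 2 % 3 = 1 := by
  have h1 : q % 3 = 1 ∨ q % 3 = 2 := by omega
  rcases h1 with h1 | h1 <;> simp [Nat.pow_mod, h1]

theorem dvd_of_mod {n k : ℕ} (h : n % k = 1 % k) (h1 : 1 ≤ n) : k ∣ n - 1 :=
  (Nat.modEq_iff_dvd' h1).1 h.symm

/-- **²E₆** -/
theorem twE6 {F : Type} [Field F] [Fintype F] {q : ℕ} (hq : IsPrimePow q) (hF : Fintype.card F = q ^ 2)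
    (h : _root_.Cfsg.Agent.H92.ExtP.Ext p ↥(Lie.twistedE6 F q)) : False := by
  have hp : p.Prime := hpf.out
  have hN := S1066.result (K := F) hq hF
  have hq1 : 1 ≤ q := hq.pos
  set N := Nat.card ↥(Lie.twistedE6 F q) with hNdef
  -- enough to find the power of `p` in the numerator
  have key : ∀ k, (p ^ (4 + k) ∣ q ^ 36 * (q ^ 2 - 1) * (q ^ 5 + 1) * (q ^ 6 - 1) * (q ^ 8 - 1) * (q ^ 9 + 1) * (q ^ 12 - 1)) →
      (p ≠ 3 ∨ 1 ≤ k) → False := by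
    intro k h1 h2
    rw [← hN] at h1
    apply h.not_dvd
    rcases h2 with h2 | h2
    · have h3 : (p ^ 4).Coprime (Nat.gcd 3 (q + 1)) := by
        refine Nat.Coprime.pow_left 4 ?_
        refine Nat.Coprime.coprime_dvd_right (Nat.gcd_dvd_left 3 (q + 1)) ?_
        exact (Nat.coprime_primes hp Nat.prime_three).2 h2
      exact h3.dvd_of_dvd_mul_left ((pow_dvd_pow p (by omega)).trans h1)
    · by_cases hp3 : p = 3
      · subst hp3
        have h4 : 3 * 3 ^ 4 ∣ 3 * N := by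
          refine Dvd.dvd.trans (?_ : 3 * 3 ^ 4 ∣ Nat.gcd 3 (q + 1) * N) (Nat.mul_dvd_mul_right (Nat.gcd_dvd_left 3 (q + 1)) N)
          refine Dvd.dvd.trans ?_ h1
          rw [show 3 * 3 ^ 4 = 3 ^ 5 by norm_num]
          exact pow_dvd_pow 3 (by omega)
        exact Nat.dvd_of_mul_dvd_mul_left (by norm_num) h4
      · have h3 : (p ^ 4).Coprime (Nat.gcd 3 (q + 1)) := by
          refine Nat.Coprime.pow_left 4 ?_
          refine Nat.Coprime.coprime_dvd_right (Nat.gcd_dvd_left 3 (q + 1)) ?_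
          exact (Nat.coprime_primes hp Nat.prime_three).2 hp3
        exact h3.dvd_of_dvd_mul_left ((pow_dvd_pow p (by omega)).trans h1)
  by_cases hpq : p ∣ q
  · refine key 1 ?_ (Or.inr le_rfl)
    have h1 : p ^ (4 + 1) ∣ q ^ 36 := (pow_dvd_pow p (by norm_num)).trans (pow_dvd_pow_of_dvd hpq 36)
    exact ((((((h1.mul_right _).mul_right _).mul_right _).mul_right _).mul_right _).mul_right _)
  · rcases prime_cases (p := p) with rfl | rfl | rfl | h7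
    · -- p = 2
      refine key 0 ?_ (Or.inl (by norm_num))
      have ho : q % 2 = 1 := by omega
      have e : ∀ i, (2 : ℕ) ∣ q ^ i - 1 := fun i => dvd_of_mod (by simp [Nat.pow_mod, ho]) (Nat.one_le_pow _ _ hq1)
      have h1 : 2 * 2 * 2 * 2 ∣ (q ^ 2 - 1) * (q ^ 6 - 1) * (q ^ 8 - 1) * (q ^ 12 - 1) :=
        Nat.mul_dvd_mul (Nat.mul_dvd_mul (Nat.mul_dvd_mul (e 2) (e 6)) (e 8)) (e 12)
      refine Dvd.dvd.trans (by norm_num : 2 ^ (4 + 0) ∣ 2 * 2 * 2 * 2) (h1.trans ⟨q ^ 36 * (q ^ 5 + 1) * (q ^ 9 + 1), by ring⟩)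
    · -- p = 3
      refine key 1 ?_ (Or.inr le_rfl)
      have hs := sq_mod_three hpq
      have e2 : 3 ∣ q ^ 2 - 1 := dvd_of_mod (by rw [hs]) (Nat.one_le_pow _ _ hq1)
      have e8 : 3 ∣ q ^ 8 - 1 := dvd_of_mod (by rw [show q ^ 8 = (q ^ 2) ^ 4 by ring]; simp [Nat.pow_mod, hs]) (Nat.one_le_pow _ _ hq1)
      have hc : (q ^ 6) % 9 = 1 := by
        have h9 : q % 9 = 1 ∨ q % 9 = 2 ∨ q % 9 = 4 ∨ q % 9 = 5 ∨ q % 9 = 7 ∨ q % 9 = 8 := by (clear * - hpq; omega)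
        rcases h9 with h | h | h | h | h | h <;> simp [Nat.pow_mod, h]
      have e6 : 9 ∣ q ^ 6 - 1 := dvd_of_mod (by rw [hc]) (Nat.one_le_pow _ _ hq1)
      have e12 : 9 ∣ q ^ 12 - 1 := dvd_of_mod (by rw [show q ^ 12 = (q ^ 6) ^ 2 by ring]; simp [Nat.pow_mod, hc]) (Nat.one_le_pow _ _ hq1)
      have h1 : 3 * 9 * 3 * 9 ∣ (q ^ 2 - 1) * (q ^ 6 - 1) * (q ^ 8 - 1) * (q ^ 12 - 1) :=
        Nat.mul_dvd_mul (Nat.mul_dvd_mul (Nat.mul_dvd_mul e2 e6) e8) e12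
      refine Dvd.dvd.trans (by norm_num : 3 ^ (4 + 1) ∣ 3 * 9 * 3 * 9) (h1.trans ⟨q ^ 36 * (q ^ 5 + 1) * (q ^ 9 + 1), by ring⟩)
    · -- p = 5
      have h5 : q % 5 = 1 ∨ q % 5 = 4 ∨ q % 5 = 2 ∨ q % 5 = 3 := by omega
      have hcase : q ^ 2 % 5 = 1 ∨ (q ^ 4 % 5 = 1 ∧ q ^ 2 % 5 = 4 ∧ (q ^ 5 + 1) % 5 ≠ 0 ∧ (q ^ 9 + 1) % 5 ≠ 0 ∧ q ^ 36 % 5 ≠ 0) := by
        rcases h5 with h | h | h | h
        · left; simp [Nat.pow_mod, h]
        · left; simp [Nat.pow_mod, h]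
        · right; refine ⟨?_, ?_, ?_, ?_, ?_⟩ <;> simp [Nat.pow_mod, Nat.add_mod, h]
        · right; refine ⟨?_, ?_, ?_, ?_, ?_⟩ <;> simp [Nat.pow_mod, Nat.add_mod, h]
      rcases hcase with h2 | ⟨h4, h2, h5', h9', h36⟩
      · refine key 0 ?_ (Or.inl (by norm_num))
        have e : ∀ i, (5 : ℕ) ∣ q ^ (2 * i) - 1 := fun i =>
          dvd_of_mod (by rw [pow_mul]; simp [Nat.pow_mod, h2]) (Nat.one_le_pow _ _ hq1)
        have h1 : 5 * 5 * 5 * 5 ∣ (q ^ 2 - 1) * (q ^ 6 - 1) * (q ^ 8 - 1) * (q ^ 12 - 1) :=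
          Nat.mul_dvd_mul (Nat.mul_dvd_mul (Nat.mul_dvd_mul (e 1) (e 3)) (e 4)) (e 6)
        exact Dvd.dvd.trans (by norm_num : 5 ^ (4 + 0) ∣ 5 * 5 * 5 * 5) (h1.trans ⟨q ^ 36 * (q ^ 5 + 1) * (q ^ 9 + 1), by ring⟩)
      · -- v = 2 a
        have hq4 : 1 ≤ q ^ 4 := Nat.one_le_pow _ _ hq1
        obtain ⟨x, hx⟩ : ∃ x, q ^ 4 = x + 1 := ⟨q ^ 4 - 1, by omega⟩
        have f8 : q ^ 8 - 1 = x * (q ^ 4 + 1) := by
          have : q ^ 8 = (q ^ 4) ^ 2 := by ring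
          rw [this, hx]
          have : (x + 1) ^ 2 - 1 = x * (x + 1 + 1) := by
            rw [show (x + 1) ^ 2 = x * (x + 1 + 1) + 1 by ring]; simp
          rw [this]
        have f12 : q ^ 12 - 1 = x * (q ^ 8 + q ^ 4 + 1) := by
          have e1 : q ^ 12 = (q ^ 4) ^ 3 := by ring
          have e2 : q ^ 8 = (q ^ 4) ^ 2 := by ring
          rw [e1, e2, hx]
          rw [show (x + 1) ^ 3 = x * ((x + 1) ^ 2 + (x + 1) + 1) + 1 by ring]; simp
        have hprod : q ^ 36 * (q ^ 2 - 1) * (q ^ 5 + 1) * (q ^ 6 - 1) * (q ^ 8 - 1) * (q ^ 9 + 1) * (q ^ 12 - 1) =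
            (q ^ 36 * (q ^ 2 - 1) * (q ^ 5 + 1) * (q ^ 6 - 1) * (q ^ 9 + 1) * (q ^ 4 + 1) * (q ^ 8 + q ^ 4 + 1)) * x ^ 2 := by
          rw [f8, f12]; ring
        have nd : ∀ {a b : ℕ}, ¬ 5 ∣ a → ¬ 5 ∣ b → ¬ 5 ∣ a * b := fun ha hb hab =>
          ((Nat.prime_five.dvd_mul).1 hab).elim ha hb
        have n2 : ¬ 5 ∣ q ^ 2 - 1 := by
          intro hd
          have : q ^ 2 % 5 = 1 := by
            have h1 : 1 ≤ q ^ 2 := Nat.one_le_pow _ _ hq1
            omega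
          omega
        have n6 : ¬ 5 ∣ q ^ 6 - 1 := by
          intro hd
          have h6 : q ^ 6 % 5 = 4 := by rw [show q ^ 6 = (q ^ 2) ^ 3 by ring, Nat.pow_mod, h2]
          have h1 : 1 ≤ q ^ 6 := Nat.one_le_pow _ _ hq1
          omega
        have n48 : ¬ 5 ∣ q ^ 4 + 1 := by omega
        have n84 : ¬ 5 ∣ q ^ 8 + q ^ 4 + 1 := by
          have h8 : q ^ 8 % 5 = 1 := by rw [show q ^ 8 = (q ^ 4) ^ 2 by ring, Nat.pow_mod, h4]
          (clear * - h4 h8; omega)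
        have hU : ¬ 5 ∣ (q ^ 36 * (q ^ 2 - 1) * (q ^ 5 + 1) * (q ^ 6 - 1) * (q ^ 9 + 1) * (q ^ 4 + 1) * (q ^ 8 + q ^ 4 + 1)) := by
          refine nd (nd (nd (nd (nd (nd ?_ n2) ?_) n6) ?_) n48) n84
          · (clear * - h36; omega)
          · (clear * - h5'; omega)
          · (clear * - h9'; omega)
        have h3 : 5 ^ 3 ∣ (q ^ 36 * (q ^ 2 - 1) * (q ^ 5 + 1) * (q ^ 6 - 1) * (q ^ 9 + 1) * (q ^ 4 + 1) * (q ^ 8 + q ^ 4 + 1)) * x ^ 2 := by
          rw [← hprod, ← hN]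
          exact Dvd.dvd.mul_left h.dvd _
        have h3' : 5 ^ 3 ∣ x ^ 2 :=
          (Nat.Coprime.pow_left 3 ((Nat.Prime.coprime_iff_not_dvd Nat.prime_five).2 hU)).dvd_of_dvd_mul_left h3
        have h25 : 5 ^ 2 ∣ x := by
          have hx5 : 5 ∣ x := Nat.prime_five.dvd_of_dvd_pow (Dvd.dvd.trans (by norm_num) h3')
          obtain ⟨y, rfl⟩ := hx5
          have : 5 ^ 2 * 5 ∣ 5 ^ 2 * y ^ 2 := by rw [← mul_pow]; exact Dvd.dvd.trans (by norm_num) h3'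
          have hy : 5 ∣ y := Nat.prime_five.dvd_of_dvd_pow (Nat.dvd_of_mul_dvd_mul_left (by norm_num) this)
          obtain ⟨z, rfl⟩ := hy
          exact ⟨z, by ring⟩
        refine key 0 ?_ (Or.inl (by norm_num))
        rw [hprod]
        refine Dvd.dvd.mul_left ?_ _
        have := pow_dvd_pow_of_dvd h25 2
        exact Dvd.dvd.trans (by norm_num) this
    · exact false_of_weyl type_E6 (W_E6 h7) (by rw [hF]; exact fun hd => hpq (hp.dvd_of_dvd_pow hd)) (e6Words F q) h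

/-- **³D₄** -/
theorem twD4 {F : Type} [Field F] [Fintype F] {q : ℕ} (hq : IsPrimePow q) (hF : Fintype.card F = q ^ 3)
    (h : _root_.Cfsg.Agent.H92.ExtP.Ext p ↥(Lie.twistedD4 F q)) : False := by
  have hp : p.Prime := hpf.out
  have hN := S1067.result (K := F) hq hF
  have hq1 : 1 ≤ q := hq.pos
  by_cases hpq : p ∣ q
  · apply h.not_dvd
    rw [hN]
    have h1 : p ^ 4 ∣ q ^ 12 := (pow_dvd_pow p (by norm_num)).trans (pow_dvd_pow_of_dvd hpq 12)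
    exact ((h1.mul_right _).mul_right _).mul_right _
  · rcases prime_cases (p := p) with rfl | rfl | rfl | h7
    · apply h.not_dvd
      rw [hN]
      have h8 : q ^ 2 % 8 = 1 := by
        have : q % 8 = 1 ∨ q % 8 = 3 ∨ q % 8 = 5 ∨ q % 8 = 7 := by omega
        rcases this with h | h | h | h <;> simp [Nat.pow_mod, h]
      have e2 : 8 ∣ q ^ 2 - 1 := dvd_of_mod (by rw [h8]) (Nat.one_le_pow _ _ hq1)
      have e6 : 8 ∣ q ^ 6 - 1 := dvd_of_mod (by rw [show q ^ 6 = (q ^ 2) ^ 3 by ring, Nat.pow_mod, h8]) (Nat.one_le_pow _ _ hq1)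
      have h1 : 8 * 8 ∣ (q ^ 2 - 1) * (q ^ 6 - 1) := Nat.mul_dvd_mul e2 e6
      exact Dvd.dvd.trans (by norm_num : 2 ^ 4 ∣ 8 * 8) (h1.trans ⟨q ^ 12 * (q ^ 8 + q ^ 4 + 1), by ring⟩)
    · apply h.not_dvd
      rw [hN]
      have hs := sq_mod_three hpq
      have e2 : 3 ∣ q ^ 2 - 1 := dvd_of_mod (by rw [hs]) (Nat.one_le_pow _ _ hq1)
      have hc : (q ^ 6) % 9 = 1 := by
        have h9 : q % 9 = 1 ∨ q % 9 = 2 ∨ q % 9 = 4 ∨ q % 9 = 5 ∨ q % 9 = 7 ∨ q % 9 = 8 := by (clear * - hpq; omega)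
        rcases h9 with h | h | h | h | h | h <;> simp [Nat.pow_mod, h]
      have e6 : 9 ∣ q ^ 6 - 1 := dvd_of_mod (by rw [hc]) (Nat.one_le_pow _ _ hq1)
      have e8 : 3 ∣ q ^ 8 + q ^ 4 + 1 := by
        have a8 : q ^ 8 % 3 = 1 := by rw [show q ^ 8 = (q ^ 2) ^ 4 by ring, Nat.pow_mod, hs]
        have a4 : q ^ 4 % 3 = 1 := by rw [show q ^ 4 = (q ^ 2) ^ 2 by ring, Nat.pow_mod, hs]
        omega
      have h1 : 3 * 9 * 3 ∣ (q ^ 2 - 1) * (q ^ 6 - 1) * (q ^ 8 + q ^ 4 + 1) := Nat.mul_dvd_mul (Nat.mul_dvd_mul e2 e6) e8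
      exact Dvd.dvd.trans (by norm_num : 3 ^ 4 ∣ 3 * 9 * 3) (h1.trans ⟨q ^ 12, by ring⟩)
    · exact false_of_weyl type_D4 (W_D4 le_rfl) (by rw [hF]; exact fun hd => hpq (hp.dvd_of_dvd_pow hd)) (d4Words F q) h
    · exact false_of_weyl type_D4 (W_D4 (by omega)) (by rw [hF]; exact fun hd => hpq (hp.dvd_of_dvd_pow hd)) (d4Words F q) h

/-- **²F₄** -/
theorem twF4 {F : Type} [Field F] [Fintype F] {m : ℕ} (hm : 1 ≤ m) (hF : Fintype.card F = 2 ^ (2 * m + 1))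
    (h : _root_.Cfsg.Agent.H92.ExtP.Ext p ↥(Lie.twistedF4 F (2 ^ m))) : p = 3 ∧ ¬ 3 ∣ 2 * m + 1 := by
  have hp : p.Prime := hpf.out
  have hN := S1068.result (K := F) hF
  have h2 : p ≠ 2 := by
    rintro rfl
    apply h.not_dvd
    rw [hN]
    have h1 : 2 ^ 4 ∣ (2 ^ (2 * m + 1)) ^ 12 := by rw [← pow_mul]; exact pow_dvd_pow 2 (by omega)
    exact (((h1.mul_right _).mul_right _).mul_right _).mul_right _
  have h3 : p = 3 := by
    by_contra h3
    have h5 : 5 ≤ p := by rcases prime_cases (p := p) with rfl | rfl | rfl | h7 <;> omega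
    refine false_of_weyl type_F4 (W_F4 h5) ?_ (f4Words F (2 ^ m)) h
    rw [hF]
    intro hd
    exact h2 ((Nat.prime_dvd_prime_iff_eq hp Nat.prime_two).1 (hp.dvd_of_dvd_pow hd))
  refine ⟨h3, fun hd => ?_⟩
  subst h3
  obtain ⟨k, hk⟩ := hd
  obtain ⟨j, rfl⟩ : ∃ j, k = 2 * j + 1 := ⟨k / 2, by omega⟩
  apply h.not_dvd
  rw [hN, hk]
  set Q := 2 ^ (3 * (2 * j + 1)) with hQ
  have hQ9 : Q % 9 = 8 := by
    rw [hQ, pow_mul, pow_succ, pow_mul, Nat.mul_mod, Nat.pow_mod]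
    norm_num
  have e3 : 9 ∣ Q ^ 3 + 1 := by
    have : Q ^ 3 % 9 = 8 := by rw [Nat.pow_mod, hQ9]
    omega
  have e4 : 9 ∣ Q ^ 4 - 1 := dvd_of_mod (by rw [Nat.pow_mod, hQ9]) (Nat.one_le_pow _ _ (by positivity))
  have h1 : 9 * 9 ∣ (Q ^ 3 + 1) * (Q ^ 4 - 1) := Nat.mul_dvd_mul e3 e4
  exact Dvd.dvd.trans (by norm_num : 3 ^ 4 ∣ 9 * 9) (h1.trans ⟨Q ^ 12 * (Q - 1) * (Q ^ 6 + 1), by ring⟩)

/-- **²G₂** -/
theorem ree {F : Type} [Field F] [Fintype F] {m : ℕ} (hm : 1 ≤ m) (hF : Fintype.card F = 3 ^ (2 * m + 1))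
    (h : _root_.Cfsg.Agent.H92.ExtP.Ext p ↥(Lie.twistedG2 F (3 ^ m))) : False := by
  have hp : p.Prime := hpf.out
  have hN := S1069.result (K := F) hF
  rcases prime_cases (p := p) with rfl | rfl | rfl | h7
  · refine false_of_comm h fun Q => ?_
    have hc := (S1157.result hm hF Q).1
    refine ⟨⟨fun a b => Subtype.ext ?_⟩⟩
    have ha : (a : ↥(Lie.twistedG2 F (3 ^ m))) ∈ Subgroup.centralizer ((Q : Subgroup ↥(Cfsg.Lie.twistedG2 F (3 ^ m))) : Set ↥(Cfsg.Lie.twistedG2 F (3 ^ m))) := by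
      rw [hc]; exact a.2
    exact (Subgroup.mem_centralizer_iff.1 ha b.1 b.2).symm
  · apply h.not_dvd
    rw [hN]
    have h1 : 3 ^ 4 ∣ (3 ^ (2 * m + 1)) ^ 3 := by rw [← pow_mul]; exact pow_dvd_pow 3 (by omega)
    exact (h1.mul_right _).mul_right _
  · refine false_of_weyl type_G2 (W_G2 le_rfl) ?_ (g2Words F (3 ^ m)) h
    rw [hF]
    exact fun hd => absurd ((Nat.prime_dvd_prime_iff_eq hp Nat.prime_three).1 (hp.dvd_of_dvd_pow hd)) (by norm_num)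
  · refine false_of_weyl type_G2 (W_G2 (by omega)) ?_ (g2Words F (3 ^ m)) h
    rw [hF]
    intro hd
    have := (Nat.prime_dvd_prime_iff_eq hp Nat.prime_three).1 (hp.dvd_of_dvd_pow hd)
    omega

/-- **Suzuki groups** -/
theorem sz {F : Type} [Field F] [Fintype F] {m : ℕ} (hm : 1 ≤ m) (hF : Fintype.card F = 2 ^ (2 * m + 1))
    (h : _root_.Cfsg.Agent.H92.ExtP.Ext p ↥(Lie.Sz F (2 ^ (m + 1)))) : False := by
  by_cases hp2 : p = 2
  · subst hp2
    apply h.not_dvd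
    rw [(S1163.result hm hF).1]
    have h1 : 2 ^ 4 ∣ (2 ^ (2 * m + 1)) ^ 2 := by rw [← pow_mul]; exact pow_dvd_pow 2 (by omega)
    exact (h1.mul_right _).mul_right _
  · refine false_of_comm h fun Q => ?_
    have hc := H67.SzOdd.sylow_cyclic hm hF (p := p) hp2 Q
    exact ⟨⟨fun a b => by
      obtain ⟨g, hg⟩ := hc.exists_generator
      obtain ⟨i, rfl⟩ := Subgroup.mem_zpowers_iff.1 (hg a)
      obtain ⟨j, rfl⟩ := Subgroup.mem_zpowers_iff.1 (hg b)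
      exact ((Commute.refl g).zpow_zpow i j).eq⟩⟩

end Cfsg.Agent.H525.ExtTw
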